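/-
Irreducible linear `p`-groups with a normal elementary abelian subgroup of order `p ^ 2` are
imprimitive, induced from a subgroup of index `p` which is not faithful on the blocks.
-/
import Cfsg.Agent.Lib.PGroup.Basic
import Cfsg.Agent.EqLemmas
import Mathlib.LinearAlgebra.Span.Basic

set_option autoImplicit false

namespace Cfsg.Agent.PLinear

open Subgroup

variable {q : ℕ} [Fact q.Prime] {V : Type*} [AddCommGroup V] [Module (ZMod q) V]
  {G : Type*} [Group G] {p : ℕ} (ρ : G →* (V ≃ₗ[ZMod q] V))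

/-- The vectors fixed by `x`. -/
def fixSub (x : G) : Submodule (ZMod q) V where
  carrier := {v | ρ x v = v}
  add_mem' := fun {u v} hu hv => by show ρ x (u + v) = u + v; rw [map_add, hu, hv]
  zero_mem' := map_zero _
  smul_mem' := fun c {v} hv => by show ρ x (c • v) = c • v; rw [map_smul, hv]

theorem mem_fixSub {x : G} {v : V} : v ∈ fixSub ρ x ↔ ρ x v = v := Iff.rfl

theorem rho_mul (x y : G) (v : V) : ρ (x * y) v = ρ x (ρ y v) := by rw [map_mul]; rfl

/-- The stabiliser of a vector. -/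
def vecStab (v : V) : Subgroup G where
  carrier := {x | ρ x v = v}
  one_mem' := by show ρ 1 v = v; rw [map_one]; rfl
  mul_mem' := fun {x y} hx hy => by show ρ (x * y) v = v; rw [rho_mul, hy, hx]
  inv_mem' := fun {x} hx => by
    show ρ x⁻¹ v = v
    conv_lhs => rw [← show ρ x v = v from hx]
    rw [← rho_mul, inv_mul_cancel, map_one]
    rfl

theorem mem_vecStab {x : G} {v : V} : x ∈ vecStab ρ v ↔ ρ x v = v := Iff.rfl

/-- `(1 / p) ∑ x ^ j`, the projection on the fixed vectors of `x`. -/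
def proj (p : ℕ) (x : G) : V →ₗ[ZMod q] V :=
  (p : ZMod q)⁻¹ • ∑ j ∈ Finset.range p, (ρ (x ^ j) : V →ₗ[ZMod q] V)

theorem proj_apply (p : ℕ) (x : G) (v : V) :
    proj ρ p x v = (p : ZMod q)⁻¹ • ∑ j ∈ Finset.range p, ρ (x ^ j) v := by
  simp [proj]

theorem proj_mem {p : ℕ} {x : G} (hx : x ^ p = 1) (v : V) : ρ x (proj ρ p x v) = proj ρ p x v := by
  rw [proj_apply, map_smul, map_sum]
  congr 1
  have h1 : ∑ j ∈ Finset.range p, ρ x (ρ (x ^ j) v) = ∑ j ∈ Finset.range p, ρ (x ^ (j + 1)) v :=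
    Finset.sum_congr rfl fun j _ => by rw [← rho_mul, pow_succ']
  have h2 := (Finset.sum_range_succ' (fun j => ρ (x ^ j) v) p).symm.trans
    (Finset.sum_range_succ (fun j => ρ (x ^ j) v) p)
  rw [hx, pow_zero] at h2
  rw [h1]
  exact add_right_cancel h2

theorem proj_of_fixed {p : ℕ} (hp : (p : ZMod q) ≠ 0) {x : G} {v : V} (hv : ρ x v = v) :
    proj ρ p x v = v := by
  have : ∀ j : ℕ, ρ (x ^ j) v = v := fun j => pow_mem (show x ∈ vecStab ρ v from hv) j
  rw [proj_apply, Finset.sum_congr rfl fun j _ => this j, Finset.sum_const, Finset.card_range,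
    ← Nat.cast_smul_eq_nsmul (ZMod q), smul_smul, inv_mul_cancel₀ hp, one_smul]

theorem fixed_proj {p : ℕ} {x y : G} (h : Commute x y) {v : V} (hv : ρ y v = v) :
    ρ y (proj ρ p x v) = proj ρ p x v := by
  rw [proj_apply, map_smul, map_sum]
  congr 1
  refine Finset.sum_congr rfl fun j _ => ?_
  rw [← rho_mul, ← (h.pow_left j).eq, rho_mul, hv]

/-- A normal elementary abelian subgroup `⟨a, z⟩` with `z` central gives imprimitivity. -/
theorem imprimitive [Finite G] [Finite V] [Nontrivial V] [hp : Fact p.Prime] (hG : IsPGroup p G)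
    (hρ : Function.Injective ρ)
    (hirr : ∀ W : Submodule (ZMod q) V, (∀ g : G, ∀ w ∈ W, ρ g w ∈ W) → W = ⊥ ∨ W = ⊤)
    {E : Subgroup G} [E.Normal] (hE : Cfsg.IsElementaryAbelian p E) (hEc : Nat.card E = p ^ 2) :
    ∃ (H : Subgroup G) (W : Fin p → Submodule (ZMod q) V), H.index = p ∧
      iSup W = ⊤ ∧ iSupIndep W ∧
      (∀ h ∈ H, ∀ i, ∀ w ∈ W i, ρ h w ∈ W i) ∧
      (∀ i, ∃ h ∈ H, h ≠ 1 ∧ ∀ w ∈ W i, ρ h w = w) ∧
      ∀ g : G, g ∉ H → ∃ σ : Equiv.Perm (Fin p), orderOf σ = p ∧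
        ∀ i, (W i).map (ρ g : V →ₗ[ZMod q] V) = W (σ i) := by
  have hp1 := hp.out.one_lt
  haveI : NeZero p := ⟨by omega⟩
  have hEne : E ≠ ⊥ := fun h => by
    rw [h, Subgroup.card_bot] at hEc
    exact absurd hEc.symm (Nat.one_lt_pow (by norm_num) hp1).ne'
  have hbot : ∀ x : G, x ≠ 1 → (∀ g, Commute g x) → fixSub ρ x = ⊥ := by
    intro x hx hc
    refine (hirr _ fun g w hw => ?_).resolve_right fun h => ?_
    · rw [mem_fixSub] at hw ⊢
      rw [← rho_mul, ← (hc g).eq, rho_mul, hw]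
    · refine hx (hρ (LinearEquiv.ext fun v => ?_))
      rw [map_one]
      exact (mem_fixSub ρ).1 (h ▸ Submodule.mem_top)
  -- the characteristic is not `p`
  have hpq : (p : ZMod q) ≠ 0 := by
    intro h0
    rw [ZMod.natCast_eq_zero_iff, Nat.prime_dvd_prime_iff_eq Fact.out hp.out] at h0
    letI : MulAction G V := MulAction.compHom V
      ({ toFun := fun g => (ρ g : V →ₗ[ZMod q] V), map_one' := by ext; simp,
         map_mul' := fun x y => by ext v; exact rho_mul ρ x y v } : G →* Module.End (ZMod q) V)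
    have hsm : ∀ (g : G) (v : V), g • v = ρ g v := fun _ _ => rfl
    have hdvd : p ∣ Nat.card V := by
      have hcard := Module.natCard_eq_pow_finrank (K := ZMod q) (V := V)
      rw [Nat.card_zmod] at hcard
      rw [hcard, ← h0]
      exact dvd_pow_self _ Module.finrank_pos.ne'
    have hfix : (0 : V) ∈ MulAction.fixedPoints G V := fun g => by rw [hsm, map_zero]
    obtain ⟨b, hb, hb0⟩ := hG.exists_fixed_point_of_prime_dvd_card_of_fixed_point V hdvd hfix
    obtain ⟨z, hzE, hzc, hz⟩ := PGroup.exists_central_order_p hG hEne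
    have hz1 : z ≠ 1 := fun h => by rw [h, orderOf_one] at hz; omega
    exact hb0 ((Submodule.eq_bot_iff _).1 (hbot z hz1 fun g => Subgroup.mem_center_iff.1 hzc g) b
      (hb z)).symm
  obtain ⟨z, hzE, hzc, hz⟩ := PGroup.exists_central_order_p hG hEne
  have hzg : ∀ g, Commute g z := fun g => Subgroup.mem_center_iff.1 hzc g
  have hz1 : z ≠ 1 := fun h => by rw [h, orderOf_one] at hz; omega
  have hzp : z ^ p = 1 := hz ▸ pow_orderOf_eq_one z
  obtain ⟨a, haE, haz⟩ : ∃ a ∈ E, a ∉ zpowers z := by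
    by_contra h
    push Not at h
    have := Subgroup.card_le_of_le (show E ≤ zpowers z from h)
    rw [hEc, Nat.card_zpowers, hz] at this
    have := Nat.lt_pow_self hp1 (n := 2)
    nlinarith
  have hap : a ^ p = 1 := hE.2 a haE
  have hxp : ∀ i : ℕ, (a * z ^ i) ^ p = 1 := fun i => by
    rw [Commute.mul_pow ((hzg a).pow_right i), hap, ← pow_mul, mul_comm, pow_mul, hzp, one_pow, one_mul]
  have hx1 : ∀ i : ℕ, a * z ^ i ≠ 1 := fun i h => haz (by
    rw [mul_eq_one_iff_eq_inv] at h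
    rw [h]; exact inv_mem (pow_mem (mem_zpowers z) i))
  have hxx : ∀ i k : ℕ, Commute (a * z ^ i) (a * z ^ k) := fun i k =>
    ((Commute.refl a).mul_left ((hzg a).symm.pow_left i)).mul_right
      (((hzg a).pow_right k).mul_left (Commute.pow_pow (Commute.refl z) i k))
  have hgen : ∀ w ∈ zpowers z, w ≠ 1 → z ∈ zpowers w := fun w hw hw1 => by
    have hle : zpowers w ≤ zpowers z := zpowers_le.2 hw
    have hwp : orderOf w = p := orderOf_eq_prime (by
      obtain ⟨i, rfl⟩ := hw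
      rw [← zpow_natCast, ← zpow_mul, mul_comm, zpow_mul, zpow_natCast, hzp, one_zpow]) hw1
    rw [eq_of_le_of_card_ge hle (by rw [Nat.card_zpowers, Nat.card_zpowers, hz, hwp])]
    exact mem_zpowers z
  have hkill : ∀ (v : V) (w : G), w ∈ zpowers z → w ≠ 1 → ρ w v = v → v = 0 := by
    intro v w hw hw1 hv
    have : z ∈ vecStab ρ v := zpowers_le.2 hv (hgen w hw hw1)
    exact (Submodule.eq_bot_iff _).1 (hbot z hz1 hzg) v this
  let W : Fin p → Submodule (ZMod q) V := fun i => fixSub ρ (a * z ^ (i : ℕ))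
  have hsum : ∀ v : V, ∑ i : Fin p, proj ρ p (a * z ^ (i : ℕ)) v = v := by
    intro v
    simp only [proj_apply, ← Finset.smul_sum]
    rw [Finset.sum_comm, Finset.sum_eq_single_of_mem 0 (Finset.mem_range.2 hp.out.pos)]
    · simp only [pow_zero, map_one, LinearEquiv.coe_one, id_eq, Finset.sum_const, Finset.card_univ,
        Fintype.card_fin]
      rw [← Nat.cast_smul_eq_nsmul (ZMod q), smul_smul, inv_mul_cancel₀ hpq, one_smul]
    · intro j hj hj0
      rw [Finset.mem_range] at hj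
      have e : ∀ i : Fin p, ρ ((a * z ^ (i : ℕ)) ^ j) v = ρ (a ^ j) (ρ ((z ^ j) ^ (i : ℕ)) v) := fun i => by
        rw [Commute.mul_pow ((hzg a).pow_right _), rho_mul, ← pow_mul, mul_comm, pow_mul]
      simp only [e]
      rw [← map_sum, Fin.sum_univ_eq_sum_range (fun i => ρ ((z ^ j) ^ i) v) p]
      have hjp : (z ^ j) ^ p = 1 := by rw [← pow_mul, mul_comm, pow_mul, hzp, one_pow]
      have h := proj_mem ρ hjp v
      rw [proj_apply] at h
      have hj1 : z ^ j ≠ 1 := fun h' => by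
        have := Nat.le_of_dvd (by omega) (hz ▸ orderOf_dvd_of_pow_eq_one h')
        omega
      have h0 := hkill _ _ (pow_mem (mem_zpowers z) j) hj1 h
      rw [smul_eq_zero] at h0
      rw [h0.resolve_left (inv_ne_zero hpq), map_zero]
  have hzero : ∀ i k : Fin p, i ≠ k → ∀ v ∈ W k, proj ρ p (a * z ^ (i : ℕ)) v = 0 := by
    intro i k hik v hv
    set u := proj ρ p (a * z ^ (i : ℕ)) v
    have h1 : ρ (a * z ^ (i : ℕ)) u = u := proj_mem ρ (hxp _) v
    have h2 : ρ (a * z ^ (k : ℕ)) u = u := fixed_proj ρ (hxx _ _) hv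
    refine hkill u ((a * z ^ (i : ℕ))⁻¹ * (a * z ^ (k : ℕ))) ?_ ?_
      (mul_mem (show _ ∈ vecStab ρ u from inv_mem (mem_vecStab ρ |>.2 h1)) h2)
    · rw [show (a * z ^ (i : ℕ))⁻¹ * (a * z ^ (k : ℕ)) = (z ^ (i : ℕ))⁻¹ * z ^ (k : ℕ) by group]
      exact mul_mem (inv_mem (pow_mem (mem_zpowers z) _)) (pow_mem (mem_zpowers z) _)
    · rw [ne_eq, inv_mul_eq_one, mul_right_inj]
      exact fun h => hik (Fin.ext (pow_injOn_Iio_orderOf (show (i : ℕ) ∈ Set.Iio (orderOf z) by rw [hz]; exact i.2)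
        (show (k : ℕ) ∈ Set.Iio (orderOf z) by rw [hz]; exact k.2) h))
  have htop : iSup W = ⊤ := by
    rw [eq_top_iff]
    intro v _
    rw [← hsum v]
    exact Submodule.sum_mem _ fun i _ => Submodule.mem_iSup_of_mem i (proj_mem ρ (hxp _) v)
  have hind : iSupIndep W := by
    intro i
    rw [Submodule.disjoint_def]
    intro v hv hv'
    have hle : (⨆ (k) (_ : k ≠ i), W k) ≤ LinearMap.ker (proj ρ p (a * z ^ (i : ℕ))) :=
      iSup₂_le fun k hk w hw => LinearMap.mem_ker.2 (hzero i k (Ne.symm hk) w hw)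
    rw [← proj_of_fixed ρ hpq (show ρ (a * z ^ (i : ℕ)) v = v from hv)]
    exact LinearMap.mem_ker.1 (hle hv')
  -- the commutator map
  have hlt : ⁅E, (⊤ : Subgroup G)⁆ < E := PGroup.commutator_lt_of_ne_bot hG hEne
  have hcomm : ∀ g : G, g * a * g⁻¹ * a⁻¹ ∈ zpowers z := by
    intro g
    have hmem : a * g * a⁻¹ * g⁻¹ ∈ ⁅E, (⊤ : Subgroup G)⁆ :=
      Subgroup.commutator_mem_commutator haE (mem_top g)
    set K := ⁅E, (⊤ : Subgroup G)⁆ with hK
    haveI : K.Normal := Subgroup.commutator_normal E ⊤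
    have hKc : K ≤ center G := by
      obtain ⟨c, hc⟩ := (hG.to_subgroup K).exists_card_eq
      have hlt' : Nat.card K < p ^ 2 := hEc ▸ (lt_of_le_of_ne (Subgroup.card_le_of_le hlt.le)
        fun h => hlt.ne (eq_of_le_of_card_ge hlt.le h.ge))
      rw [hc] at hlt'
      have hc2 := (Nat.pow_lt_pow_iff_right hp1).1 hlt'
      rcases Nat.lt_or_ge c 1 with h | h
      · rw [eq_bot_of_card_eq K (by rw [hc, show c = 0 by omega, pow_zero])]; exact bot_le
      · exact PGroup.le_center_of_card_eq hG (by rw [hc, show c = 1 by omega, pow_one])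
    have hEZ : (E ⊓ center G) = zpowers z := by
      refine (eq_of_le_of_card_ge (le_inf (zpowers_le.2 hzE) (zpowers_le.2 hzc)) ?_).symm
      obtain ⟨c, hc⟩ := (hG.to_subgroup (E ⊓ center G)).exists_card_eq
      have hne : E ⊓ center G ≠ E := fun h => by
        have hall : ∀ g : G, Commute g a := fun g =>
          Subgroup.mem_center_iff.1 (show a ∈ center G from (h.symm.le haE).2) g
        obtain ⟨v, hv⟩ := exists_ne (0 : V)
        apply hv
        rw [← hsum v]
        refine Finset.sum_eq_zero fun i _ => ?_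
        exact (Submodule.eq_bot_iff _).1 (hbot _ (hx1 _) fun g => (hall g).mul_right ((hzg g).pow_right _)) _
          (proj_mem ρ (hxp _) v)
      have hlt2 : Nat.card ↥(E ⊓ center G) < p ^ 2 := hEc ▸ (lt_of_le_of_ne
        (Subgroup.card_le_of_le inf_le_left) fun h => hne (eq_of_le_of_card_ge inf_le_left h.ge))
      rw [hc] at hlt2
      have hc2 := (Nat.pow_lt_pow_iff_right hp1).1 hlt2
      rw [hc, Nat.card_zpowers, hz]
      calc p ^ c ≤ p ^ 1 := Nat.pow_le_pow_right (by omega) (by omega)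
        _ = p := pow_one p
    have h3 : a * g * a⁻¹ * g⁻¹ ∈ zpowers z := hEZ ▸ Subgroup.mem_inf.2 ⟨hlt.le hmem, hKc hmem⟩
    have h4 := inv_mem h3
    rwa [show (a * g * a⁻¹ * g⁻¹)⁻¹ = g * a * g⁻¹ * a⁻¹ by group] at h4
  have hcz : ∀ g : G, ∀ w ∈ zpowers z, g * w = w * g := fun g w hw => by
    obtain ⟨i, rfl⟩ := hw
    exact ((hzg g).zpow_right i).eq
  let f : G →* zpowers z := MonoidHom.mk' (fun g => ⟨g * a * g⁻¹ * a⁻¹, hcomm g⟩) fun g h => Subtype.ext (by
    show g * h * a * (g * h)⁻¹ * a⁻¹ = g * a * g⁻¹ * a⁻¹ * (h * a * h⁻¹ * a⁻¹)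
    have e := hcz (a * g⁻¹ * a⁻¹) _ (hcomm h)
    calc g * h * a * (g * h)⁻¹ * a⁻¹ = g * ((h * a * h⁻¹ * a⁻¹) * (a * g⁻¹ * a⁻¹)) := by group
      _ = g * ((a * g⁻¹ * a⁻¹) * (h * a * h⁻¹ * a⁻¹)) := by rw [e]
      _ = _ := by group)
  have hker : ∀ g, g ∈ f.ker ↔ g * a * g⁻¹ = a := fun g => by
    rw [MonoidHom.mem_ker, Subtype.ext_iff]
    exact mul_inv_eq_one
  refine ⟨f.ker, W, ?_, htop, hind, fun h hh i w hw => ?_, fun i => ⟨a * z ^ (i : ℕ), ?_, hx1 _,
    fun w hw => hw⟩, fun g hg => ?_⟩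
  · have hne : f.range ≠ ⊥ := by
      intro h
      rw [MonoidHom.range_eq_bot_iff] at h
      have hall : ∀ g : G, Commute g a := fun g => by
        have := (hker g).1 (MonoidHom.mem_ker.2 (DFunLike.congr_fun h g))
        exact mul_inv_eq_iff_eq_mul.1 this
      obtain ⟨v, hv⟩ := exists_ne (0 : V)
      apply hv
      rw [← hsum v]
      exact Finset.sum_eq_zero fun i _ => (Submodule.eq_bot_iff _).1
        (hbot _ (hx1 _) fun g => (hall g).mul_right ((hzg g).pow_right _)) _ (proj_mem ρ (hxp _) v)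
    rw [Subgroup.index_ker]
    have hd : Nat.card f.range ∣ p := by
      have := Subgroup.card_subgroup_dvd_card f.range
      rwa [Nat.card_zpowers, hz] at this
    rcases (Nat.dvd_prime hp.out).1 hd with h | h
    · exact absurd (eq_bot_of_card_eq _ h) hne
    · exact h
  · show ρ (a * z ^ (i : ℕ)) (ρ h w) = ρ h w
    have e : Commute h (a * z ^ (i : ℕ)) :=
      (show Commute h a from mul_inv_eq_iff_eq_mul.1 ((hker h).1 hh)).mul_right ((hzg h).pow_right _)
    rw [← rho_mul, ← e.eq, rho_mul, show ρ (a * z ^ (i : ℕ)) w = w from hw]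
  · rw [hker]
    calc a * z ^ (i : ℕ) * a * (a * z ^ (i : ℕ))⁻¹ = a * (z ^ (i : ℕ) * a) * (z ^ (i : ℕ))⁻¹ * a⁻¹ := by group
      _ = a := by rw [← ((hzg a).pow_right _).eq]; group
  · obtain ⟨n, hn, hnc⟩ : ∃ n, n < p ∧ z ^ n = g * a * g⁻¹ * a⁻¹ := by
      classical
      have := mem_zpowers_iff_mem_range_orderOf.1 (hcomm g)
      obtain ⟨n, hn, h⟩ := Finset.mem_image.1 this
      exact ⟨n, hz ▸ Finset.mem_range.1 hn, h⟩
    set c : Fin p := ⟨n, hn⟩
    have hc0 : c ≠ 0 := fun h => hg ((hker g).2 (by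
      have : n = 0 := congrArg Fin.val h
      rw [this, pow_zero] at hnc
      exact mul_inv_eq_one.1 hnc.symm))
    have hga : g * a * g⁻¹ = a * z ^ n := by
      rw [((hzg a).pow_right n).eq, hnc]; group
    refine ⟨Equiv.addRight c, orderOf_eq_prime ?_ ?_, fun i => ?_⟩
    · have hit : ∀ (m : ℕ) (k : Fin p), ((Equiv.addRight c) ^ m) k = k + m • c := by
        intro m
        induction m with
        | zero => simp
        | succ m ih => intro k; rw [pow_succ, Equiv.Perm.mul_apply, ih, succ_nsmul']; simp [add_assoc]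
      ext k
      rw [hit, show p • c = 0 by simpa using card_nsmul_eq_zero (x := c)]
      simp
    · exact fun h => hc0 (by simpa using Equiv.ext_iff.1 h 0)
    · have hgi : g * (a * z ^ (i : ℕ)) * g⁻¹ = a * z ^ ((Equiv.addRight c i : Fin p) : ℕ) := by
        have hz' : z ^ ((Equiv.addRight c i : Fin p) : ℕ) = z ^ ((i : ℕ) + n) := by
          show z ^ (((i + c : Fin p)) : ℕ) = _
          rw [Fin.val_add, ← pow_mod_orderOf z ((i : ℕ) + n), hz]
        rw [hz', show g * (a * z ^ (i : ℕ)) * g⁻¹ = g * a * g⁻¹ * (g * z ^ (i : ℕ) * g⁻¹) by group, hga,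
          ((hzg g).pow_right _).eq, mul_inv_cancel_right, mul_assoc, ← pow_add, add_comm]
      ext v
      rw [Submodule.mem_map_equiv, mem_fixSub, mem_fixSub, ← hgi]
      have hs : (ρ g).symm v = ρ g⁻¹ v := by rw [map_inv]; rfl
      rw [hs, rho_mul ρ (g * (a * z ^ (i : ℕ))) g⁻¹, rho_mul ρ g]
      constructor
      · intro h; rw [h, ← rho_mul, mul_inv_cancel, map_one]; rfl
      · intro h
        have := congrArg (ρ g⁻¹) h
        rwa [← rho_mul, inv_mul_cancel, map_one] at this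

end Cfsg.Agent.PLinear
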