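/-
Half-transitive linear `p`-groups (Passman): semiregular groups, reducible groups, the imprimitive
case and the groups with a cyclic subgroup of index two.
-/
import Cfsg.Agent.Lib.PLinear.Imprimitive
import Cfsg.Agent.S3370
import Mathlib.LinearAlgebra.Projection

set_option autoImplicit false

namespace Cfsg.Agent.PLinear

open Subgroup

variable {q : ℕ} [Fact q.Prime] {V : Type*} [AddCommGroup V] [Module (ZMod q) V]
  {G : Type*} [Group G] (ρ : G →* (V ≃ₗ[ZMod q] V))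

theorem rho_one_apply (v : V) : ρ 1 v = v := by rw [map_one]; rfl

/-- All stabilisers of non-zero vectors have the same order. -/
def HalfTrans : Prop :=
  ∀ v w : V, v ≠ 0 → w ≠ 0 → Nat.card (vecStab ρ v) = Nat.card (vecStab ρ w)

theorem card_vecStab_mul [Finite G] (v : V) :
    Nat.card (vecStab ρ v) * Nat.card {u : V | ∃ g : G, ρ g v = u} = Nat.card G := by
  letI : MulAction G V :=
    { smul := fun g u => ρ g u, one_smul := fun u => rho_one_apply ρ u, mul_smul := fun g h u => rho_mul ρ g h u }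
  have h := (MulAction.stabilizer G v).card_mul_index
  rw [MulAction.index_stabilizer, ← Nat.card_coe_set_eq] at h
  exact h

theorem halfTrans_of [Finite G]
    (h : ∀ v w : V, v ≠ 0 → w ≠ 0 →
      Nat.card {u : V | ∃ g : G, ρ g v = u} = Nat.card {u : V | ∃ g : G, ρ g w = u}) : HalfTrans ρ := by
  intro v w hv hw
  have e1 := card_vecStab_mul ρ v
  have e2 := card_vecStab_mul ρ w
  rw [h v w hv hw, ← e2] at e1
  refine Nat.eq_of_mul_eq_mul_right ?_ e1
  rcases Nat.eq_zero_or_pos (Nat.card {u : V | ∃ g : G, ρ g w = u}) with h0 | h0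
  · rw [h0, Nat.mul_zero] at e2
    exact absurd e2.symm Nat.card_pos.ne'
  · exact h0

theorem vecStab_eq_of_le [Finite G] (hht : HalfTrans ρ) {v w : V} (hv : v ≠ 0) (hw : w ≠ 0)
    (h : vecStab ρ v ≤ vecStab ρ w) : vecStab ρ v = vecStab ρ w :=
  eq_of_le_of_card_ge h (hht v w hv hw).ge

variable [Finite G] [Finite V] [Nontrivial V] {p : ℕ} [hp : Fact p.Prime]

theorem cast_ne_zero (hG : IsPGroup p G) (hht : HalfTrans ρ) (hρ : Function.Injective ρ) {g : G} (hg : g ≠ 1) :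
    (p : ZMod q) ≠ 0 := by
  intro h0
  rw [ZMod.natCast_eq_zero_iff, Nat.prime_dvd_prime_iff_eq Fact.out hp.out] at h0
  letI : MulAction G V :=
    { smul := fun g u => ρ g u, one_smul := fun u => rho_one_apply ρ u, mul_smul := fun g h u => rho_mul ρ g h u }
  have hdvd : p ∣ Nat.card V := by
    have hcard := Module.natCard_eq_pow_finrank (K := ZMod q) (V := V)
    rw [Nat.card_zmod] at hcard
    rw [hcard, ← h0]
    exact dvd_pow_self _ Module.finrank_pos.ne'
  have hfix : (0 : V) ∈ MulAction.fixedPoints G V := fun g => map_zero (ρ g)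
  obtain ⟨b, hb, hb0⟩ := hG.exists_fixed_point_of_prime_dvd_card_of_fixed_point V hdvd hfix
  refine hg (hρ (LinearEquiv.ext fun v => ?_))
  rw [map_one]
  rcases eq_or_ne v 0 with rfl | hv
  · exact map_zero _
  · have h : vecStab ρ v = vecStab ρ b :=
      eq_of_le_of_card_ge (fun g _ => hb g) (hht v b hv hb0.symm).ge
    have hm : g ∈ vecStab ρ v := h.symm ▸ (hb g : g ∈ vecStab ρ b)
    exact hm

/-- A fixed-point-free group has no elementary abelian subgroup of rank two. -/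
theorem not_elementary_of_semiregular (hpq : (p : ZMod q) ≠ 0)
    (hsr : ∀ v : V, v ≠ 0 → ∀ g : G, ρ g v = v → g = 1) {E : Subgroup G}
    (hE : Cfsg.IsElementaryAbelian p E) : Nat.card E ≠ p ^ 2 := by
  intro hEc
  have hp1 := hp.out.one_lt
  obtain ⟨v, hv⟩ := exists_ne (0 : V)
  obtain ⟨b, hbE, hb⟩ : ∃ b ∈ E, b ≠ 1 := by
    by_contra h
    push Not at h
    rw [(eq_bot_iff_forall E).2 h, Subgroup.card_bot] at hEc
    exact absurd hEc.symm (Nat.one_lt_pow (by norm_num) hp1).ne'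
  have hbp : orderOf b = p := orderOf_eq_prime (hE.2 b hbE) hb
  obtain ⟨a, haE, hab⟩ : ∃ a ∈ E, a ∉ zpowers b := by
    by_contra h
    push Not at h
    have := card_le_of_le (show E ≤ zpowers b from h)
    rw [hEc, Nat.card_zpowers, hbp] at this
    nlinarith
  have hcom : Commute a b := congrArg Subtype.val (hE.1.is_comm.comm ⟨a, haE⟩ ⟨b, hbE⟩)
  have hx : ∀ i : ℕ, (a * b ^ i) ^ p = 1 ∧ a * b ^ i ≠ 1 := fun i => ⟨by
    rw [(hcom.pow_right i).mul_pow, hE.2 a haE, ← pow_mul, mul_comm, pow_mul, hE.2 b hbE, one_pow, one_mul],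
    fun h => hab (by rw [mul_eq_one_iff_eq_inv] at h; rw [h]; exact inv_mem (pow_mem (mem_zpowers b) i))⟩
  have hker : ∀ (x : G) (u : V), x ^ p = 1 → x ≠ 1 → proj ρ p x u = 0 := fun x u hxp hx1 => by
    by_contra h
    exact hx1 (hsr _ h x (proj_mem ρ hxp u))
  refine hv ?_
  have hsum : ∑ i ∈ Finset.range p, proj ρ p (a * b ^ i) v = v := by
    simp only [proj_apply, ← Finset.smul_sum]
    rw [Finset.sum_comm, Finset.sum_eq_single_of_mem 0 (Finset.mem_range.2 hp.out.pos)]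
    · simp only [pow_zero, rho_one_apply, Finset.sum_const, Finset.card_range]
      rw [← Nat.cast_smul_eq_nsmul (ZMod q), smul_smul, inv_mul_cancel₀ hpq, one_smul]
    · intro j hj hj0
      rw [Finset.mem_range] at hj
      have e : ∀ i : ℕ, ρ ((a * b ^ i) ^ j) v = ρ (a ^ j) (ρ ((b ^ j) ^ i) v) := fun i => by
        rw [(hcom.pow_right i).mul_pow, rho_mul, ← pow_mul, mul_comm, pow_mul]
      simp only [e, ← map_sum]
      have h := hker (b ^ j) v (by rw [← pow_mul, mul_comm, pow_mul, hE.2 b hbE, one_pow]) fun h' => by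
        have := Nat.le_of_dvd (by omega) (hbp ▸ orderOf_dvd_of_pow_eq_one h')
        omega
      rw [proj_apply, smul_eq_zero] at h
      rw [h.resolve_left (inv_ne_zero hpq), map_zero]
  rw [← hsum]
  exact Finset.sum_eq_zero fun i _ => hker _ v (hx i).1 (hx i).2

/-- Half-transitive and not semiregular implies irreducible. -/
theorem irreducible_of_halfTrans (hG : IsPGroup p G) (hρ : Function.Injective ρ) (hht : HalfTrans ρ)
    (hns : ¬ ∀ v : V, v ≠ 0 → ∀ g : G, ρ g v = v → g = 1) :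
    ∀ W : Submodule (ZMod q) V, (∀ g : G, ∀ w ∈ W, ρ g w ∈ W) → W = ⊥ ∨ W = ⊤ := by
  intro W hW
  push Not at hns
  obtain ⟨v0, hv0, g0, hg0v, hg0⟩ := hns
  have hpq := cast_ne_zero ρ hG hht hρ hg0
  by_contra hc
  push Not at hc
  obtain ⟨W', hW'⟩ := W.exists_isCompl
  have : Fintype G := Fintype.ofFinite G
  have hcard : (Nat.card G : ZMod q) ≠ 0 := by
    obtain ⟨n, hn⟩ := hG.exists_card_eq
    rw [hn, Nat.cast_pow]
    exact pow_ne_zero _ hpq
  let P : V →ₗ[ZMod q] V := W.projection W' hW'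
  have hPmem : ∀ v, P v ∈ W := fun v => Submodule.projection_apply_mem hW' v
  have hPid : ∀ w ∈ W, P w = w := fun w hw => Submodule.projection_apply_of_mem_left hW' hw
  let π : V → V := fun v => (Nat.card G : ZMod q)⁻¹ • ∑ g : G, ρ g (P (ρ g⁻¹ v))
  have hπmem : ∀ v, π v ∈ W := fun v => W.smul_mem _ (W.sum_mem fun g _ => hW g _ (hPmem _))
  have hπid : ∀ w ∈ W, π w = w := fun w hw => by
    have : ∀ g : G, ρ g (P (ρ g⁻¹ w)) = w := fun g => by
      rw [hPid _ (hW _ _ hw), ← rho_mul, mul_inv_cancel, rho_one_apply]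
    show _ • _ = w
    rw [Finset.sum_congr rfl fun g _ => this g, Finset.sum_const, Finset.card_univ,
      ← Nat.card_eq_fintype_card, ← Nat.cast_smul_eq_nsmul (ZMod q), smul_smul, inv_mul_cancel₀ hcard, one_smul]
  have hπadd : ∀ u v, π (u + v) = π u + π v := fun u v => by
    simp only [π, map_add, Finset.sum_add_distrib, smul_add]
  have hπeq : ∀ h v, π (ρ h v) = ρ h (π v) := fun h v => by
    show _ • _ = ρ h (_ • _)
    rw [map_smul, map_sum]
    congr 1
    refine Fintype.sum_equiv (Equiv.mulLeft h⁻¹) _ _ fun g => ?_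
    show ρ g (P (ρ g⁻¹ (ρ h v))) = ρ h (ρ (h⁻¹ * g) (P (ρ (h⁻¹ * g)⁻¹ v)))
    rw [← rho_mul, ← rho_mul, mul_inv_cancel_left, mul_inv_rev, inv_inv]
  obtain ⟨w, hwW, hw⟩ := (Submodule.ne_bot_iff W).1 hc.1
  obtain ⟨t, ht⟩ : ∃ t : V, t ∉ W := by
    by_contra h
    push Not at h
    exact hc.2 (eq_top_iff.2 fun v _ => h v)
  set u := t - π t with hu
  have hu0 : u ≠ 0 := fun h => ht (by rw [sub_eq_zero.1 h]; exact hπmem t)
  have hπu : π u = 0 := by
    have h := hπadd u (π t)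
    rw [hu, sub_add_cancel, hπid _ (hπmem t)] at h
    exact add_eq_right.1 h.symm
  have key : ∀ u w : V, π u = 0 → u ≠ 0 → w ∈ W → w ≠ 0 → vecStab ρ u = vecStab ρ w := by
    intro u w hπu hu hwW hw
    have hne : u + w ≠ 0 := fun h => hw (by
      have h' := congrArg π h
      rw [hπadd, hπu, zero_add, hπid w hwW] at h'
      rw [h']
      exact hπid 0 W.zero_mem)
    have hle : ∀ g ∈ vecStab ρ (u + w), g ∈ vecStab ρ w := fun g hg => by
      have h' := congrArg π (show ρ g (u + w) = u + w from hg)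
      rw [hπeq, hπadd, hπu, zero_add, hπid w hwW] at h'
      exact h'
    have h1 := vecStab_eq_of_le ρ hht hne hw hle
    have h2 : vecStab ρ (u + w) ≤ vecStab ρ u := fun g hg => by
      have hgw : ρ g w = w := hle g hg
      have hg' : ρ g (u + w) = u + w := hg
      rw [map_add, hgw] at hg'
      exact add_right_cancel hg'
    rw [← vecStab_eq_of_le ρ hht hne hu h2, h1]
  refine hg0 (hρ (LinearEquiv.ext fun v => ?_))
  rw [map_one]
  show ρ g0 v = v
  -- every stabiliser equals that of `w`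
  have hall : ∀ x : V, x ≠ 0 → vecStab ρ w ≤ vecStab ρ x := by
    intro x hx g hg
    have hgW : ∀ y ∈ W, ρ g y = y := fun y hy => by
      rcases eq_or_ne y 0 with rfl | hy0
      · exact map_zero _
      · have h : g ∈ vecStab ρ y := by rw [← key u y hπu hu0 hy hy0, key u w hπu hu0 hwW hw]; exact hg
        exact h
    have hgK : ∀ y, π y = 0 → ρ g y = y := fun y hy => by
      rcases eq_or_ne y 0 with rfl | hy0
      · exact map_zero _
      · have h : g ∈ vecStab ρ y := by rw [key y w hy hy0 hwW hw]; exact hg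
        exact h
    have hx' : π (x - π x) = 0 := by
      have h := hπadd (x - π x) (π x)
      rw [sub_add_cancel, hπid _ (hπmem x)] at h
      exact add_eq_right.1 h.symm
    show ρ g x = x
    conv_lhs => rw [← sub_add_cancel x (π x)]
    rw [map_add, hgK _ hx', hgW _ (hπmem x), sub_add_cancel]
  rcases eq_or_ne v 0 with rfl | hv
  · exact map_zero _
  · have h1 : vecStab ρ v0 = vecStab ρ w := (eq_of_le_of_card_ge (hall v0 hv0) (hht v0 w hv0 hw).le).symm
    have h2 : g0 ∈ vecStab ρ v := hall v hv (h1 ▸ (hg0v : g0 ∈ vecStab ρ v0))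
    exact h2

/-- Components with respect to an independent family are unique. -/
theorem comp_unique {ι : Type*} [Fintype ι] {W : ι → Submodule (ZMod q) V} (hind : iSupIndep W)
    {c d : ι → V} (hc : ∀ i, c i ∈ W i) (hd : ∀ i, d i ∈ W i) (h : ∑ i, c i = ∑ i, d i) : c = d := by
  classical
  funext i
  have h1 : c i - d i = -∑ k ∈ Finset.univ.erase i, (c k - d k) := by
    rw [eq_neg_iff_add_eq_zero, Finset.add_sum_erase _ (fun k => c k - d k) (Finset.mem_univ i),
      Finset.sum_sub_distrib, h, sub_self]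
  have h2 : c i - d i ∈ ⨆ (k) (_ : k ≠ i), W k := by
    rw [h1]
    refine neg_mem (Submodule.sum_mem _ fun k hk => ?_)
    exact Submodule.mem_iSup_of_mem k (Submodule.mem_iSup_of_mem (Finset.ne_of_mem_erase hk)
      ((W k).sub_mem (hc k) (hd k)))
  exact sub_eq_zero.1 (Submodule.disjoint_def.1 (hind i) _ ((W i).sub_mem (hc i) (hd i)) h2)

/-- An element of prime order `p` on `p` points has no fixed point. -/
theorem perm_no_fixed {σ : Equiv.Perm (Fin p)} (hσ : orderOf σ = p) (i : Fin p) : σ i ≠ i := by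
  intro hi
  have hcyc := Equiv.Perm.isCycle_of_prime_order'' (σ := σ) ((Fintype.card_fin p).symm ▸ hp.out)
    (by rw [hσ, Fintype.card_fin])
  have h := hcyc.orderOf
  rw [hσ] at h
  have hu : σ.support = Finset.univ := Finset.eq_univ_of_card _ (by simp [← h])
  exact Equiv.Perm.mem_support.1 (hu ▸ Finset.mem_univ i) hi

theorem comp_of_fixed {W : Fin p → Submodule (ZMod q) V} (hind : iSupIndep W)
    {g : G} {σ : Equiv.Perm (Fin p)} (hσ : ∀ i, ∀ w ∈ W i, ρ g w ∈ W (σ i)) {c : Fin p → V}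
    (hc : ∀ i, c i ∈ W i) (hfix : ρ g (∑ i, c i) = ∑ i, c i) (i : Fin p) : ρ g (c i) = c (σ i) := by
  have h := comp_unique hind (c := fun k => ρ g (c (σ.symm k))) (d := c)
    (fun k => by have h := hσ (σ.symm k) _ (hc (σ.symm k)); rwa [Equiv.apply_symm_apply] at h) hc (by
      rw [← hfix, map_sum]
      exact Equiv.sum_comp σ.symm (fun i => ρ g (c i)))
  have h' := congrFun h (σ i)
  simpa using h'

omit [Nontrivial V] hp in
/-- The coordinates of the monomial group of Passman. -/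
theorem exists_monomial_coord {H : Subgroup G} (hHi : H.index = 2) (b : Module.Basis (Fin 2) (ZMod q) V)
    (hdiag : ∀ g ∈ H, ∃ x y : ZMod q, x ≠ 0 ∧ ρ g (b 0) = x • b 0 ∧ ρ g (b 1) = y • b 1)
    (hS : ∀ c : ZMod q, c ≠ 0 → ∃ g : G, g ∉ H ∧ ρ g (b 0) = c • b 1 ∧ ρ g (b 1) = c⁻¹ • b 0)
    (hK : ∀ g ∈ H, ρ g (b 0) = b 0 → ρ g (b 1) = b 1 ∨ ρ g (b 1) = -b 1)
    (hKex : ∃ g ∈ H, ρ g (b 0) = b 0 ∧ ρ g (b 1) = -b 1) :
    ∃ e : V ≃ₗ[ZMod q] (Fin 2 → ZMod q), ∀ f : (Fin 2 → ZMod q) ≃ₗ[ZMod q] (Fin 2 → ZMod q),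
      (∃ g : G, f = e.symm.trans ((ρ g).trans e)) ↔
      ∃ a s : ZMod q, a ≠ 0 ∧ (s = 1 ∨ s = -1) ∧
        ((∀ v, f v = ![a * v 0, s * a⁻¹ * v 1]) ∨ (∀ v, f v = ![s * a⁻¹ * v 1, a * v 0])) := by
  obtain ⟨w, hwH, hw0, hw1⟩ : ∃ w : G, w ∉ H ∧ ρ w (b 0) = b 1 ∧ ρ w (b 1) = b 0 := by
    obtain ⟨w, hw, e0, e1⟩ := hS 1 one_ne_zero
    exact ⟨w, hw, by rw [e0, one_smul], by rw [e1, inv_one, one_smul]⟩
  have hbal : ∀ c : ZMod q, c ≠ 0 → ∃ g ∈ H, ρ g (b 0) = c • b 0 ∧ ρ g (b 1) = c⁻¹ • b 1 := by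
    intro c hc
    obtain ⟨g, hg, e0, e1⟩ := hS c⁻¹ (inv_ne_zero hc)
    rw [inv_inv] at e1
    refine ⟨g * w, (mul_mem_iff_of_index_two hHi).2 (iff_of_false hg hwH), ?_, ?_⟩
    · rw [rho_mul, hw0, e1]
    · rw [rho_mul, hw1, e0]
  have hHshape : ∀ g ∈ H, ∃ a s : ZMod q, a ≠ 0 ∧ (s = 1 ∨ s = -1) ∧ ρ g (b 0) = a • b 0 ∧
      ρ g (b 1) = (s * a⁻¹) • b 1 := by
    intro g hg
    obtain ⟨x, y, hx, e0, e1⟩ := hdiag g hg
    obtain ⟨k, hk, k0, k1⟩ := hbal x⁻¹ (inv_ne_zero hx)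
    rw [inv_inv] at k1
    have h0 : ρ (k * g) (b 0) = b 0 := by
      rw [rho_mul, e0, map_smul, k0, smul_smul, mul_inv_cancel₀ hx, one_smul]
    have h1 : ρ (k * g) (b 1) = (y * x) • b 1 := by rw [rho_mul, e1, map_smul, k1, smul_smul]
    have hy : y * x = 1 ∨ y * x = -1 := by
      rcases hK _ (H.mul_mem hk hg) h0 with h | h
      · refine Or.inl ?_
        have := congrArg (fun v => b.repr v 1) (h1.symm.trans h)
        simpa using this
      · refine Or.inr ?_
        have := congrArg (fun v => b.repr v 1) (h1.symm.trans h)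
        simpa using this
    exact ⟨x, y * x, hx, hy, e0, by rw [e1, mul_assoc, mul_inv_cancel₀ hx, mul_one]⟩
  have hHex : ∀ a s : ZMod q, a ≠ 0 → (s = 1 ∨ s = -1) →
      ∃ g ∈ H, ρ g (b 0) = a • b 0 ∧ ρ g (b 1) = (s * a⁻¹) • b 1 := by
    intro a s ha hs
    obtain ⟨g, hg, e0, e1⟩ := hbal a ha
    rcases hs with rfl | rfl
    · exact ⟨g, hg, e0, by rw [e1, one_mul]⟩
    · obtain ⟨k, hk, k0, k1⟩ := hKex
      refine ⟨k * g, H.mul_mem hk hg, by rw [rho_mul, e0, map_smul, k0], ?_⟩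
      rw [rho_mul, e1, map_smul, k1]
      simp
  set e : V ≃ₗ[ZMod q] (Fin 2 → ZMod q) := b.equivFun with he
  have heb : ∀ i, e (b i) = Pi.single i 1 := fun i => by
    rw [he]; ext j; simp [Finsupp.single_apply, Pi.single_apply, eq_comm]
  have hev : ∀ (g : G) (v : Fin 2 → ZMod q), (e.symm.trans ((ρ g).trans e)) v =
      v 0 • e (ρ g (b 0)) + v 1 • e (ρ g (b 1)) := by
    intro g v
    simp [he, Module.Basis.equivFun_symm_apply, Fin.sum_univ_two, map_add, map_smul]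
  refine ⟨e, fun f => ⟨?_, ?_⟩⟩
  · rintro ⟨g, rfl⟩
    by_cases hg : g ∈ H
    · obtain ⟨a, s, ha, hs, e0, e1⟩ := hHshape g hg
      refine ⟨a, s, ha, hs, Or.inl fun v => ?_⟩
      rw [hev, e0, e1, map_smul, map_smul, heb, heb]
      ext i; fin_cases i <;> simp <;> ring
    · obtain ⟨a, s, ha, hs, e0, e1⟩ := hHshape (w⁻¹ * g)
        ((mul_mem_iff_of_index_two hHi).2 (iff_of_false (fun h => hwH (inv_mem_iff.1 h)) hg))
      have f0 : ρ g (b 0) = a • b 1 := by
        have h := congrArg (ρ w) e0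
        rwa [← rho_mul, mul_inv_cancel_left, map_smul, hw0] at h
      have f1 : ρ g (b 1) = (s * a⁻¹) • b 0 := by
        have h := congrArg (ρ w) e1
        rwa [← rho_mul, mul_inv_cancel_left, map_smul, hw1] at h
      refine ⟨a, s, ha, hs, Or.inr fun v => ?_⟩
      rw [hev, f0, f1, map_smul, map_smul, heb, heb]
      ext i; fin_cases i <;> simp <;> ring
  · rintro ⟨a, s, ha, hs, hf | hf⟩
    · obtain ⟨g, -, e0, e1⟩ := hHex a s ha hs
      refine ⟨g, LinearEquiv.ext fun v => ?_⟩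
      rw [hf, hev, e0, e1, map_smul, map_smul, heb, heb]
      ext i; fin_cases i <;> simp <;> ring
    · obtain ⟨g, -, e0, e1⟩ := hHex a s ha hs
      refine ⟨w * g, LinearEquiv.ext fun v => ?_⟩
      rw [hf, hev]
      simp only [rho_mul, e0, e1, map_smul, hw0, hw1, heb]
      ext i; fin_cases i <;> simp <;> ring

/-- The imprimitive case of half-transitivity. -/
theorem imprimitive_cases (hG : IsPGroup p G) (hρ : Function.Injective ρ) (hht : HalfTrans ρ)
    {H : Subgroup G} {W : Fin p → Submodule (ZMod q) V} (hHi : H.index = p) (htop : iSup W = ⊤)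
    (hind : iSupIndep W) (hH : ∀ h ∈ H, ∀ i, ∀ w ∈ W i, ρ h w ∈ W i)
    (hkill : ∀ i, ∃ h ∈ H, h ≠ 1 ∧ ∀ w ∈ W i, ρ h w = w)
    (hperm : ∀ g : G, g ∉ H → ∃ σ : Equiv.Perm (Fin p), orderOf σ = p ∧
      ∀ i, (W i).map (ρ g : V →ₗ[ZMod q] V) = W (σ i)) :
    (Nat.card V = q ^ 2 ∧ (∃ m : ℕ, q = 2 ^ m + 1) ∧
      ∃ e : V ≃ₗ[ZMod q] (Fin 2 → ZMod q), ∀ f : (Fin 2 → ZMod q) ≃ₗ[ZMod q] (Fin 2 → ZMod q),
        (∃ g : G, f = e.symm.trans ((ρ g).trans e)) ↔
        ∃ a s : ZMod q, a ≠ 0 ∧ (s = 1 ∨ s = -1) ∧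
          ((∀ v, f v = ![a * v 0, s * a⁻¹ * v 1]) ∨ (∀ v, f v = ![s * a⁻¹ * v 1, a * v 0]))) ∨
    (Nat.card V = 81 ∧ q = 3 ∧ p = 2) := by
  have hp1 := hp.out.one_lt
  haveI : NeZero p := ⟨by omega⟩
  obtain ⟨g0, hg0⟩ : ∃ g0 : G, g0 ∉ H := by
    by_contra h
    push Not at h
    rw [(eq_top_iff' H).2 h, index_top] at hHi
    omega
  have hmap : ∀ g : G, g ∉ H → ∃ σ : Equiv.Perm (Fin p), orderOf σ = p ∧ ∀ i, ∀ w ∈ W i, ρ g w ∈ W (σ i) :=
    fun g hg => by
      obtain ⟨σ, hσ, h⟩ := hperm g hg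
      exact ⟨σ, hσ, fun i w hw => h i ▸ Submodule.mem_map_of_mem hw⟩
  obtain ⟨σ0, hσ0, hσ0W⟩ := hperm g0 hg0
  have hWne : ∀ i, W i ≠ ⊥ := by
    intro i hi
    have hcyc := Equiv.Perm.isCycle_of_prime_order'' (σ := σ0) ((Fintype.card_fin p).symm ▸ hp.out)
      (by rw [hσ0, Fintype.card_fin])
    have hk : ∀ n : ℕ, W ((σ0 ^ n) i) = ⊥ := by
      intro n
      induction n with
      | zero => exact hi
      | succ n ih => rw [pow_succ', Equiv.Perm.mul_apply, ← hσ0W, ih, Submodule.map_bot]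
    have hall : ∀ j, W j = ⊥ := fun j => by
      obtain ⟨n, hn⟩ := (hcyc.sameCycle (perm_no_fixed hσ0 i) (perm_no_fixed hσ0 j)).exists_nat_pow_eq
      exact hn ▸ hk n
    have hbot : iSup W = ⊥ := by simp [hall]
    rw [hbot] at htop
    exact bot_ne_top htop
  have hne : ∀ i, ∃ w ∈ W i, w ≠ 0 := fun i => (Submodule.ne_bot_iff _).1 (hWne i)
  have hdec : ∀ v : V, ∃ c : Fin p → V, (∀ i, c i ∈ W i) ∧ ∑ i, c i = v := fun v => by
    obtain ⟨f, hf, hv⟩ := (Submodule.mem_iSup_iff_exists_finsupp W v).1 (htop ▸ Submodule.mem_top)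
    exact ⟨fun i => f i, hf, by rw [← hv, Finsupp.sum_fintype _ _ fun _ => rfl]⟩
  -- vectors with at most two components
  have hpair : ∀ i k : Fin p, i ≠ k → ∀ a ∈ W i, ∀ b ∈ W k,
      ∀ j, (Pi.single i a + Pi.single k b : Fin p → V) j ∈ W j := by
    intro i k hik a ha b hb j
    rw [Pi.add_apply]
    rcases eq_or_ne j i with rfl | hji
    · simpa [Pi.single_eq_of_ne hik] using ha
    · rcases eq_or_ne j k with rfl | hjk
      · simpa [Pi.single_eq_of_ne hji] using hb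
      · simp [Pi.single_eq_of_ne hji, Pi.single_eq_of_ne hjk]
  have hstabH : ∀ i, ∀ w ∈ W i, w ≠ 0 → vecStab ρ w ≤ H := by
    intro i w hw hw0 g hg
    by_contra hgH
    obtain ⟨σ, hσ, hσW⟩ := hmap g hgH
    have h := hσW i w hw
    rw [show ρ g w = w from hg] at h
    exact hw0 (Submodule.disjoint_def.1 (hind.pairwiseDisjoint (perm_no_fixed hσ i).symm) w hw h)
  have hsplit : ∀ i k : Fin p, i ≠ k → ∀ a ∈ W i, ∀ b ∈ W k, ∀ g ∈ H, ρ g (a + b) = a + b →
      ρ g a = a ∧ ρ g b = b := by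
    intro i k hik a ha b hb g hg hfix
    have hc := hpair i k hik a ha b hb
    have hs : ∑ j, (Pi.single i a + Pi.single k b : Fin p → V) j = a + b := by
      simp only [Pi.add_apply, Finset.sum_add_distrib, Finset.sum_pi_single', Finset.mem_univ, if_true]
    have h := comp_of_fixed ρ hind (σ := 1) (fun j w hw => hH g hg j w hw) hc (by rw [hs]; exact hfix)
    have h1 := h i
    have h2 := h k
    simp [Pi.single_eq_of_ne hik, Pi.single_eq_of_ne hik.symm] at h1 h2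
    exact ⟨h1, h2⟩
  have hswap : ∀ i k : Fin p, i ≠ k → ∀ a ∈ W i, a ≠ 0 → ∀ b ∈ W k, ∀ g : G, g ∉ H → ρ g (a + b) = a + b →
      p = 2 ∧ ρ g a = b ∧ ρ g b = a := by
    intro i k hik a ha ha0 b hb g hg hfix
    obtain ⟨σ, hσ, hσW⟩ := hmap g hg
    have hc := hpair i k hik a ha b hb
    have hs : ∑ j, (Pi.single i a + Pi.single k b : Fin p → V) j = a + b := by
      simp only [Pi.add_apply, Finset.sum_add_distrib, Finset.sum_pi_single', Finset.mem_univ, if_true]
    have h := comp_of_fixed ρ hind (σ := σ) hσW hc (by rw [hs]; exact hfix)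
    have hga : ρ g a ≠ 0 := fun h => ha0 ((ρ g).map_eq_zero_iff.1 h)
    have h1 := h i
    simp [Pi.single_eq_of_ne hik] at h1
    have hσi : σ i = k := by
      by_contra hne'
      simp [Pi.single_eq_of_ne (perm_no_fixed hσ i), Pi.single_eq_of_ne hne'] at h1
      exact ha0 h1
    rw [hσi] at h1
    simp [Pi.single_eq_of_ne hik.symm] at h1
    have h2 := h k
    simp [Pi.single_eq_of_ne hik.symm] at h2
    have hb0 : b ≠ 0 := h1 ▸ hga
    have hσk : σ k = i := by
      by_contra hne'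
      simp [Pi.single_eq_of_ne (perm_no_fixed hσ k), Pi.single_eq_of_ne hne'] at h2
      exact hb0 h2
    rw [hσk] at h2
    simp [Pi.single_eq_of_ne hik] at h2
    refine ⟨?_, h1, h2⟩
    by_contra hp2
    have hsq : orderOf (σ ^ 2) = p := by
      rw [orderOf_pow' σ two_ne_zero, hσ, Nat.Coprime.gcd_eq_one ((Nat.coprime_primes hp.out Nat.prime_two).2 hp2),
        Nat.div_one]
    exact perm_no_fixed hsq i (by rw [pow_two, Equiv.Perm.mul_apply, hσi, hσk])
  have hp2 : p = 2 := by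
    by_contra hp2
    have heq : ∀ i k : Fin p, i ≠ k → ∀ a ∈ W i, a ≠ 0 → ∀ b ∈ W k, b ≠ 0 → vecStab ρ a = vecStab ρ b := by
      intro i k hik a ha ha0 b hb hb0
      have hab : a + b ≠ 0 := fun h => ha0 (Submodule.disjoint_def.1 (hind.pairwiseDisjoint hik) a ha (by
        rw [add_eq_zero_iff_eq_neg.1 h]; exact neg_mem hb))
      have hle : ∀ g ∈ vecStab ρ (a + b), ρ g a = a ∧ ρ g b = b := fun g hg => by
        by_cases hgH : g ∈ H
        · exact hsplit i k hik a ha b hb g hgH hg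
        · exact absurd (hswap i k hik a ha ha0 b hb g hgH hg).1 hp2
      rw [← vecStab_eq_of_le ρ hht hab ha0 fun g hg => (hle g hg).1,
        ← vecStab_eq_of_le ρ hht hab hb0 fun g hg => (hle g hg).2]
    obtain ⟨h, hhH, hh1, hhW⟩ := hkill 0
    obtain ⟨a, ha, ha0⟩ := hne 0
    refine hh1 (hρ (LinearEquiv.ext fun v => ?_))
    rw [map_one]
    show ρ h v = v
    obtain ⟨c, hc, rfl⟩ := hdec v
    rw [map_sum]
    refine Finset.sum_congr rfl fun i _ => ?_
    rcases eq_or_ne i 0 with rfl | hi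
    · exact hhW _ (hc 0)
    rcases eq_or_ne (c i) 0 with h0 | h0
    · rw [h0, map_zero]
    · have hh : h ∈ vecStab ρ (c i) := heq 0 i hi.symm a ha ha0 _ (hc i) h0 ▸ (hhW a ha : h ∈ vecStab ρ a)
      exact hh
  subst hp2
  obtain ⟨k0, hk0H, hk01, hk0W⟩ := hkill 0
  obtain ⟨b0, hb0, hb00, hkb0⟩ : ∃ b ∈ W 1, b ≠ 0 ∧ ρ k0 b ≠ b := by
    by_contra h
    push Not at h
    refine hk01 (hρ (LinearEquiv.ext fun v => ?_))
    rw [map_one]
    show ρ k0 v = v
    obtain ⟨c, hc, rfl⟩ := hdec v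
    rw [Fin.sum_univ_two, map_add, hk0W _ (hc 0)]
    rcases eq_or_ne (c 1) 0 with h0 | h0
    · rw [h0, map_zero]
    · rw [h _ (hc 1) h0]
  have h01 : (0 : Fin 2) ≠ 1 := fun h => absurd (congrArg Fin.val h) (by norm_num)
  have hex : ∀ a ∈ W 0, a ≠ 0 → ∀ b ∈ W 1, ρ k0 b ≠ b → ∃ g : G, g ∉ H ∧ ρ g a = b ∧ ρ g b = a := by
    intro a ha ha0 b hb hkb
    by_contra hcon
    have hab : a + b ≠ 0 := fun h => ha0 (Submodule.disjoint_def.1 (hind.pairwiseDisjoint h01) a ha (by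
      rw [add_eq_zero_iff_eq_neg.1 h]; exact neg_mem hb))
    have hle : ∀ g ∈ vecStab ρ (a + b), ρ g a = a ∧ ρ g b = b := fun g hg => by
      by_cases hgH : g ∈ H
      · exact hsplit 0 1 h01 a ha b hb g hgH hg
      · exact absurd ⟨g, hgH, (hswap 0 1 h01 a ha ha0 b hb g hgH hg).2⟩ hcon
    have hk : k0 ∈ vecStab ρ (a + b) := vecStab_eq_of_le ρ hht hab ha0 (fun g hg => (hle g hg).1) ▸
      (hk0W a ha : k0 ∈ vecStab ρ a)
    exact hkb (hle k0 hk).2
  obtain ⟨a0, ha0, ha00⟩ := hne 0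
  have htrans : ∀ a ∈ W 0, a ≠ 0 → ∃ h ∈ H, ρ h a0 = a := by
    intro a ha hane
    obtain ⟨g1, hg1, e1, -⟩ := hex a0 ha0 ha00 b0 hb0 hkb0
    obtain ⟨g2, hg2, -, e2⟩ := hex a ha hane b0 hb0 hkb0
    refine ⟨g2 * g1, (mul_mem_iff_of_index_two hHi).2 (iff_of_false hg2 hg1), ?_⟩
    rw [rho_mul, e1, e2]
  -- the order of a block
  obtain ⟨l, hl⟩ : ∃ l, Nat.card {w : W 0 // w ≠ 0} = 2 ^ l := by
    letI : MulAction H {w : W 0 // w ≠ 0} :=
      { smul := fun h w => ⟨⟨ρ (h : G) w.1.1, hH h h.2 0 _ w.1.2⟩, fun e => w.2 (Subtype.ext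
          ((ρ (h : G)).map_eq_zero_iff.1 (congrArg Subtype.val e)))⟩
        one_smul := fun w => Subtype.ext (Subtype.ext (rho_one_apply ρ _))
        mul_smul := fun g h w => Subtype.ext (Subtype.ext (rho_mul ρ _ _ _)) }
    let w0 : {w : W 0 // w ≠ 0} := ⟨⟨a0, ha0⟩, fun e => ha00 (congrArg Subtype.val e)⟩
    have horb : MulAction.orbit H w0 = Set.univ := Set.eq_univ_of_forall fun w => by
      obtain ⟨h, hh, e⟩ := htrans w.1.1 w.1.2 fun e => w.2 (Subtype.ext e)
      exact ⟨⟨h, hh⟩, Subtype.ext (Subtype.ext e)⟩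
    have h2 : Nat.card {w : W 0 // w ≠ 0} ∣ Nat.card H := by
      rw [← Set.ncard_univ, ← horb, ← MulAction.index_stabilizer]
      exact index_dvd_card _
    obtain ⟨n, hn⟩ := (hG.to_subgroup H).exists_card_eq
    obtain ⟨l, -, hl⟩ := (Nat.dvd_prime_pow Nat.prime_two).1 (hn ▸ h2)
    exact ⟨l, hl⟩
  have hq2 : q ≠ 2 := fun h => by
    subst h
    exact cast_ne_zero ρ hG hht hρ hk01 (ZMod.natCast_self 2)
  haveI : Nontrivial (W 0) := (Submodule.nontrivial_iff_ne_bot).2 (hWne 0)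
  set d := Module.finrank (ZMod q) (W 0) with hd
  have hW0 : Nat.card (W 0) = q ^ d := by rw [Module.natCard_eq_pow_finrank (K := ZMod q), Nat.card_zmod]
  have hdl : q ^ d - 1 = 2 ^ l := by rw [← hl, S3370.card_nonzero, hW0]
  have hd0 : d ≠ 0 := Module.finrank_pos.ne'
  have hcardV : Nat.card V = (q ^ d) ^ 2 := by
    let f : W 0 × W 1 → V := fun x => x.1.1 + x.2.1
    have hbij : Function.Bijective f := by
      refine ⟨fun x y hxy => ?_, fun v => ?_⟩
      · have h := comp_unique hind (c := ![x.1.1, x.2.1]) (d := ![y.1.1, y.2.1])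
          (Fin.forall_fin_two.2 ⟨x.1.2, x.2.2⟩) (Fin.forall_fin_two.2 ⟨y.1.2, y.2.2⟩)
          (by simpa [Fin.sum_univ_two] using hxy)
        exact Prod.ext (Subtype.ext (congrFun h 0)) (Subtype.ext (congrFun h 1))
      · obtain ⟨c, hc, rfl⟩ := hdec v
        exact ⟨(⟨c 0, hc 0⟩, ⟨c 1, hc 1⟩), by simp [f, Fin.sum_univ_two]⟩
    obtain ⟨g1, hg1, -, -⟩ := hex a0 ha0 ha00 b0 hb0 hkb0
    obtain ⟨σ, hσ, hσW⟩ := hperm g1 hg1
    have h10 : σ 0 = 1 := by
      have h := perm_no_fixed hσ (0 : Fin 2)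
      revert h
      generalize σ 0 = x
      intro h
      fin_cases x
      · exact absurd rfl h
      · rfl
    have hW1 : Nat.card (W 1) = Nat.card (W 0) := by
      rw [← h10, ← hσW 0]
      exact (Nat.card_congr ((ρ g1).submoduleMap (W 0)).toEquiv).symm
    rw [← Nat.card_eq_of_bijective f hbij, Nat.card_prod, hW1, hW0, pow_two]
  rcases S3370.odd_pow_sub_one_eq (Fact.out : q.Prime) hq2 hd0 hdl with hd1 | ⟨hq3, hd2⟩
  swap
  · exact Or.inr ⟨by rw [hcardV, hd2, hq3]; norm_num, hq3, rfl⟩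
  refine Or.inl ⟨by rw [hcardV, hd1, pow_one], ⟨l, ?_⟩, ?_⟩
  · rw [hd1, pow_one] at hdl
    have := (Fact.out : q.Prime).two_le
    omega
  have hspan : ∀ i : Fin 2, ∀ x ∈ W i, x ≠ 0 → ∀ y ∈ W i, ∃ c : ZMod q, c • x = y := by
    intro i x hx hx0 y hy
    have hWi : Module.finrank (ZMod q) (W i) = 1 := by
      have hc : Nat.card (W i) = q := by
        have hh : ∀ j, Nat.card (W j) = Nat.card (W (σ0 j)) := fun j => by
          rw [← hσ0W j]
          exact Nat.card_congr ((ρ g0).submoduleMap (W j)).toEquiv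
        have hW01 : Nat.card (W 0) = q := by rw [hW0, hd1, pow_one]
        fin_cases i
        · exact hW01
        · have h := perm_no_fixed hσ0 (0 : Fin 2)
          have h' := hh 0
          revert h h'
          generalize σ0 0 = x
          intro h h'
          fin_cases x
          · exact absurd rfl h
          · exact h'.symm.trans hW01
      have h2 := Module.natCard_eq_pow_finrank (K := ZMod q) (V := W i)
      rw [hc, Nat.card_zmod] at h2
      exact (Nat.pow_eq_self_iff (Fact.out : q.Prime).one_lt).1 h2.symm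
    obtain ⟨c, hc⟩ := (finrank_eq_one_iff_of_nonzero' (⟨x, hx⟩ : W i)
      (fun h => hx0 (congrArg Subtype.val h))).1 hWi ⟨y, hy⟩
    exact ⟨c, congrArg Subtype.val hc⟩
  have hli : LinearIndependent (ZMod q) ![a0, b0] := by
    rw [LinearIndependent.pair_iff]
    intro x y hxy
    have h := comp_unique hind (c := ![x • a0, y • b0]) (d := 0)
      (Fin.forall_fin_two.2 ⟨(W 0).smul_mem _ ha0, (W 1).smul_mem _ hb0⟩) (fun i => (W i).zero_mem)
      (by simpa [Fin.sum_univ_two] using hxy)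
    exact ⟨(smul_eq_zero.1 (congrFun h 0)).resolve_right ha00, (smul_eq_zero.1 (congrFun h 1)).resolve_right hb00⟩
  have hsp : ⊤ ≤ Submodule.span (ZMod q) (Set.range ![a0, b0]) := by
    intro v _
    obtain ⟨c, hc, rfl⟩ := hdec v
    obtain ⟨x, hx⟩ := hspan 0 a0 ha0 ha00 _ (hc 0)
    obtain ⟨y, hy⟩ := hspan 1 b0 hb0 hb00 _ (hc 1)
    rw [Fin.sum_univ_two, ← hx, ← hy]
    exact add_mem (Submodule.smul_mem _ _ (Submodule.subset_span ⟨0, rfl⟩))
      (Submodule.smul_mem _ _ (Submodule.subset_span ⟨1, rfl⟩))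
  set b := Module.Basis.mk hli hsp with hb
  have hb0e : b 0 = a0 := by simp [hb]
  have hb1e : b 1 = b0 := by simp [hb]
  have hfix : ∀ g : G, ρ g a0 = a0 → ρ g b0 = b0 → g = 1 := fun g e0 e1 => hρ (by
    refine LinearEquiv.toLinearMap_injective (b.ext fun i => ?_)
    fin_cases i
    · simp only [Fin.zero_eta, hb0e, map_one]; exact e0
    · simp only [Fin.mk_one, hb1e, map_one]; exact e1)
  have hab0 : a0 + b0 ≠ 0 := fun h => ha00 (Submodule.disjoint_def.1 (hind.pairwiseDisjoint h01) a0 ha0 (by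
    rw [add_eq_zero_iff_eq_neg.1 h]; exact neg_mem hb0))
  have hsq : ∀ g ∈ vecStab ρ a0, g * g = 1 := by
    intro g hg
    have hle : Nat.card (vecStab ρ (a0 + b0)) ≤ 2 := by
      rw [← hHi, index_eq_card]
      refine Nat.card_le_card_of_injective (fun x : vecStab ρ (a0 + b0) => ((x : G) : G ⧸ H)) fun x y hxy => ?_
      have hm : (x : G)⁻¹ * y ∈ H := QuotientGroup.eq.1 hxy
      obtain ⟨e0, e1⟩ := hsplit 0 1 h01 a0 ha0 b0 hb0 _ hm ((vecStab ρ (a0 + b0)).mul_mem
        ((vecStab ρ (a0 + b0)).inv_mem x.2) y.2)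
      exact Subtype.ext (inv_mul_eq_one.1 (hfix _ e0 e1))
    rw [← hht a0 (a0 + b0) ha00 hab0] at hle
    have h1 : orderOf (⟨g, hg⟩ : vecStab ρ a0) ≤ 2 := orderOf_le_card.trans hle
    have h2 := orderOf_pos (⟨g, hg⟩ : vecStab ρ a0)
    rw [Subgroup.orderOf_mk] at h1 h2
    have h3 : g ^ 2 = 1 := orderOf_dvd_iff_pow_eq_one.1 (by interval_cases orderOf g <;> norm_num)
    rwa [pow_two] at h3
  have hK : ∀ g ∈ H, ρ g a0 = a0 → ρ g b0 = b0 ∨ ρ g b0 = -b0 := by
    intro g hg e0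
    obtain ⟨y, hy⟩ := hspan 1 b0 hb0 hb00 _ (hH g hg 1 b0 hb0)
    have h2 : ρ g (ρ g b0) = b0 := by rw [← rho_mul, hsq g e0, rho_one_apply]
    rw [← hy, map_smul, ← hy, smul_smul] at h2
    have h3 : (y * y - 1) • b0 = 0 := by rw [sub_smul, h2, one_smul, sub_self]
    rcases mul_self_eq_one_iff.1 (sub_eq_zero.1 ((smul_eq_zero.1 h3).resolve_right hb00)) with h | h
    · exact Or.inl (by rw [← hy, h, one_smul])
    · exact Or.inr (by rw [← hy, h, neg_smul, one_smul])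
  refine exists_monomial_coord ρ hHi b (fun g hg => ?_) (fun c hc => ?_) (by rw [hb0e, hb1e]; exact hK) ?_
  · rw [hb0e, hb1e]
    obtain ⟨x, hx⟩ := hspan 0 a0 ha0 ha00 _ (hH g hg 0 a0 ha0)
    obtain ⟨y, hy⟩ := hspan 1 b0 hb0 hb00 _ (hH g hg 1 b0 hb0)
    refine ⟨x, y, fun h0 => ha00 ((ρ g).map_eq_zero_iff.1 ?_), hx.symm, hy.symm⟩
    rw [← hx, h0, zero_smul]
  · rw [hb0e, hb1e]
    obtain ⟨g, hg, e0, e1⟩ := hex a0 ha0 ha00 (c • b0) ((W 1).smul_mem _ hb0) (fun h => hkb0 (by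
      rw [map_smul] at h
      exact smul_right_injective V hc h))
    refine ⟨g, hg, e0, ?_⟩
    rw [map_smul] at e1
    rw [← e1, smul_smul, inv_mul_cancel₀ hc, one_smul]
  · rw [hb0e, hb1e]
    exact ⟨k0, hk0H, hk0W a0 ha0, (hK k0 hk0H (hk0W a0 ha0)).resolve_left hkb0⟩

omit hp in
/-- Half-transitive groups with a cyclic subgroup of index two whose other involutions are conjugate to
their product with the central one. -/
theorem cyclic_index_two_cases (hρ : Function.Injective ρ) (hht : HalfTrans ρ)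
    (hirr : ∀ W : Submodule (ZMod q) V, (∀ g : G, ∀ w ∈ W, ρ g w ∈ W) → W = ⊥ ∨ W = ⊤)
    (hns : ¬ ∀ v : V, v ≠ 0 → ∀ g : G, ρ g v = v → g = 1) (h2 : (2 : ZMod q) ≠ 0)
    {C : Subgroup G} (hCi : C.index = 2) {z : G} (hz : z * z = 1) (hz1 : z ≠ 1) (hzc : ∀ g, g * z = z * g)
    (hzC : ∀ x ∈ C, x ≠ 1 → z ∈ zpowers x) (hconj : ∀ y : G, y ∉ C → y * y = 1 → ∃ g, g * y * g⁻¹ = z * y) :
    ∃ Q : ℕ, Nat.card V = Q ^ 2 ∧ Q + 1 = Nat.card {y : G // y ∉ C ∧ y * y = 1} := by
  classical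
  have hρz : ∀ v, ρ z v = -v := fun v => by
    have hfix : fixSub ρ z = ⊥ := (hirr _ fun g w hw => by
      rw [mem_fixSub] at hw ⊢
      rw [← rho_mul, ← hzc g, rho_mul, hw]).resolve_right fun h => hz1 (hρ (LinearEquiv.ext fun v => by
        rw [map_one]
        exact (mem_fixSub ρ).1 (h ▸ Submodule.mem_top)))
    have h : v + ρ z v ∈ fixSub ρ z := by
      rw [mem_fixSub, map_add, ← rho_mul, hz, rho_one_apply, add_comm]
    rw [hfix, Submodule.mem_bot] at h
    exact eq_neg_of_add_eq_zero_right h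
  have hzfix : ∀ v : V, ρ z v = v → v = 0 := fun v hv => by
    rw [hρz] at hv
    have h : (2 : ZMod q) • v = 0 := by rw [two_smul]; nth_rw 1 [← hv]; exact neg_add_cancel v
    exact (smul_eq_zero.1 h).resolve_left h2
  have hdisj : ∀ v : V, v ≠ 0 → ∀ g ∈ vecStab ρ v, g ∈ C → g = 1 := by
    intro v hv g hg hgC
    by_contra hg1
    exact hv (hzfix v (zpowers_le.2 hg (hzC g hgC hg1)))
  have hle2 : ∀ v : V, v ≠ 0 → Nat.card (vecStab ρ v) ≤ 2 := by
    intro v hv
    rw [← hCi, index_eq_card]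
    refine Nat.card_le_card_of_injective (fun x : vecStab ρ v => ((x : G) : G ⧸ C)) fun x y hxy => ?_
    exact Subtype.ext (inv_mul_eq_one.1 (hdisj v hv _ ((vecStab ρ v).mul_mem ((vecStab ρ v).inv_mem x.2) y.2)
      (QuotientGroup.eq.1 hxy)))
  push Not at hns
  obtain ⟨v0, hv0, g0, hg0v, hg0⟩ := hns
  have hcard2 : ∀ v : V, v ≠ 0 → Nat.card (vecStab ρ v) = 2 := by
    intro v hv
    refine le_antisymm (hle2 v hv) ?_
    rw [hht v v0 hv hv0]
    exact (one_lt_card_iff_ne_bot _).2 fun h => hg0 ((eq_bot_iff_forall _).1 h g0 hg0v)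
  set I := {y : G // y ∉ C ∧ y * y = 1}
  have huniq : ∀ v : V, v ≠ 0 → ∃! y : I, ρ (y : G) v = v := by
    intro v hv
    have hb : ∃ y ∈ vecStab ρ v, y ≠ 1 := by
      by_contra h
      push Not at h
      have := hcard2 v hv
      rw [(eq_bot_iff_forall (vecStab ρ v)).2 h, card_bot] at this
      omega
    obtain ⟨y, hy, hy1⟩ := hb
    have hyC : y ∉ C := fun h => hy1 (hdisj v hv y hy h)
    have hyy : y * y = 1 := by
      have h := pow_card_eq_one' (x := (⟨y, hy⟩ : vecStab ρ v))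
      rw [hcard2 v hv, pow_two] at h
      exact congrArg Subtype.val h
    refine ⟨⟨y, hyC, hyy⟩, hy, ?_⟩
    rintro ⟨y', hy'C, hy'y'⟩ hy'
    refine Subtype.ext ?_
    exact inv_mul_eq_one.1 (hdisj v hv _ ((vecStab ρ v).mul_mem ((vecStab ρ v).inv_mem hy') hy)
      ((mul_mem_iff_of_index_two hCi).2 (iff_of_false (fun h => hy'C (inv_mem_iff.1 h)) hyC)))
  have hfixcard : ∀ y : I, Nat.card V = Nat.card (fixSub ρ (y : G)) ^ 2 := by
    rintro ⟨y, hyC, hyy⟩
    obtain ⟨g, hg⟩ := hconj y hyC hyy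
    have hz' : Nat.card (fixSub ρ y) = Nat.card (fixSub ρ (z * y)) := by
      refine Nat.card_congr
        { toFun := fun v => ⟨ρ g v, by
            rw [mem_fixSub, ← rho_mul, ← hg, inv_mul_cancel_right, rho_mul, (mem_fixSub ρ).1 v.2]⟩
          invFun := fun v => ⟨ρ g⁻¹ v, by
            rw [mem_fixSub, ← rho_mul, show y * g⁻¹ = g⁻¹ * (g * y * g⁻¹) by group, hg, rho_mul,
              (mem_fixSub ρ).1 v.2]⟩
          left_inv := fun v => Subtype.ext (by
            show ρ g⁻¹ (ρ g v) = (v : V)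
            rw [← rho_mul, inv_mul_cancel, rho_one_apply])
          right_inv := fun v => Subtype.ext (by
            show ρ g (ρ g⁻¹ v) = (v : V)
            rw [← rho_mul, mul_inv_cancel, rho_one_apply]) }
    let f : fixSub ρ y × fixSub ρ (z * y) → V := fun x => x.1.1 + x.2.1
    have hm : ∀ w : fixSub ρ (z * y), ρ y w.1 = -w.1 := fun w => by
      have h := (mem_fixSub ρ).1 w.2
      rw [rho_mul, hρz] at h
      exact neg_eq_iff_eq_neg.1 h
    have hbij : Function.Bijective f := by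
      refine ⟨fun a b hab => ?_, fun v => ?_⟩
      · have h1 : a.1.1 + a.2.1 = b.1.1 + b.2.1 := hab
        have h2' := congrArg (ρ y) h1
        rw [map_add, map_add, hm, hm, (mem_fixSub ρ).1 a.1.2, (mem_fixSub ρ).1 b.1.2] at h2'
        have h3 : (2 : ZMod q) • (a.1.1 - b.1.1) = 0 := by
          rw [two_smul]
          linear_combination (norm := abel) h1 + h2'
        have h4 : a.1 = b.1 := Subtype.ext (sub_eq_zero.1 ((smul_eq_zero.1 h3).resolve_left h2))
        rw [h4] at h1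
        exact Prod.ext h4 (Subtype.ext (add_left_cancel h1))
      · refine ⟨(⟨(2 : ZMod q)⁻¹ • (v + ρ y v), ?_⟩, ⟨(2 : ZMod q)⁻¹ • (v - ρ y v), ?_⟩), ?_⟩
        · rw [mem_fixSub, map_smul, map_add, ← rho_mul, hyy, rho_one_apply, add_comm]
        · rw [mem_fixSub, rho_mul, hρz, map_smul, map_sub, ← rho_mul, hyy, rho_one_apply, ← smul_neg, neg_sub]
        · show (2 : ZMod q)⁻¹ • (v + ρ y v) + (2 : ZMod q)⁻¹ • (v - ρ y v) = v
          rw [← smul_add, show v + ρ y v + (v - ρ y v) = (2 : ZMod q) • v by rw [two_smul]; abel, smul_smul,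
            inv_mul_cancel₀ h2, one_smul]
    rw [← Nat.card_eq_of_bijective f hbij, Nat.card_prod, ← hz', pow_two]
  obtain ⟨y0, -, -⟩ := huniq v0 hv0
  set Q := Nat.card (fixSub ρ (y0 : G)) with hQ
  have hQall : ∀ y : I, Nat.card (fixSub ρ (y : G)) = Q := fun y =>
    Nat.pow_left_injective two_ne_zero ((hfixcard y).symm.trans (hfixcard y0))
  refine ⟨Q, hfixcard y0, ?_⟩
  have hV2 : 2 ≤ Nat.card V := Finite.one_lt_card
  have hcount : Nat.card V - 1 = Nat.card I * (Q - 1) := by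
    let e : {v : V // v ≠ 0} ≃ Σ y : I, {w : fixSub ρ (y : G) // w ≠ 0} :=
      Equiv.ofBijective (fun v => ⟨(huniq v.1 v.2).choose, ⟨v.1, (huniq v.1 v.2).choose_spec.1⟩,
          fun h => v.2 (congrArg Subtype.val h)⟩) ⟨fun a b hab => Subtype.ext (congrArg
            (fun s : (Σ y : I, {w : fixSub ρ (y : G) // w ≠ 0}) => (s.2.1 : V)) hab), fun s => by
        obtain ⟨y, w, hw⟩ := s
        have hw' : (w : V) ≠ 0 := fun h => hw (Subtype.ext h)
        refine ⟨⟨w.1, hw'⟩, ?_⟩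
        have key : ∀ (y' : I) (hy : y' = y) (h1 : (w : V) ∈ fixSub ρ (y' : G)) (h2 : (⟨w.1, h1⟩ : fixSub ρ (y' : G)) ≠ 0),
            (⟨y', ⟨w.1, h1⟩, h2⟩ : Σ y : I, {w : fixSub ρ (y : G) // w ≠ 0}) = ⟨y, w, hw⟩ := by
          rintro y' rfl h1 h2
          rfl
        exact key _ ((huniq w.1 hw').choose_spec.2 y w.2).symm _ _⟩
    haveI : Fintype I := Fintype.ofFinite I
    rw [← S3370.card_nonzero (V := V), Nat.card_congr e, Nat.card_sigma,
      Finset.sum_congr rfl (fun y _ => by rw [S3370.card_nonzero, hQall y]), Finset.sum_const, Finset.card_univ,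
      smul_eq_mul, ← Nat.card_eq_fintype_card]
  rw [hfixcard y0, ← hQ] at hcount hV2
  rw [show Q ^ 2 - 1 = (Q + 1) * (Q - 1) by rw [← Nat.sq_sub_sq, one_pow]] at hcount
  have hQ1 : 0 < Q - 1 := by
    rcases Nat.lt_or_ge Q 2 with h | h
    · have := Nat.pow_le_pow_left (show Q ≤ 1 by omega) 2
      rw [one_pow] at this
      omega
    · omega
  exact Nat.eq_of_mul_eq_mul_right hQ1 hcount

end Cfsg.Agent.PLinear
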